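import Cfsg.Prelude.Def_LieRecognition
import Mathlib

/-!
Elementary consequences of a rank one setup: `Q` acts regularly on `Ω ∖ {a}`, cardinalities,
normalisers of subsets of `Q`.
-/

set_option autoImplicit false

namespace CfsgLib.RankOne

open MulAction Cfsg

variable {G Ω : Type*} [Group G] [MulAction G Ω] {a : Ω} {t : G} {Q : Subgroup G}

/-- The two-point stabiliser. -/
abbrev twoPoint (a : Ω) (t : G) : Subgroup G := stabilizer G a ⊓ stabilizer G (t • a)

theorem smul_t_ne (hS : IsRankOneSetup G Ω a t Q) : t • a ≠ a := fun h => hS.not_mem h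

theorem exists_smul_pair (hS : IsRankOneSetup G Ω a t Q) {x₁ y₁ x₂ y₂ : Ω} (h₁ : x₁ ≠ y₁)
    (h₂ : x₂ ≠ y₂) : ∃ g : G, g • x₁ = x₂ ∧ g • y₁ = y₂ :=
  (MulAction.is_two_pretransitive_iff (G := G) (α := Ω)).1 hS.two_transitive h₁ h₂

theorem stabilizer_eq_mul (hS : IsRankOneSetup G Ω a t Q) {g : G} (hg : g ∈ stabilizer G a) :
    ∃ x ∈ Q, ∃ d ∈ twoPoint a t, x * d = g := by
  have hn : twoPoint a t ≤ Subgroup.normalizer (Q : Set G) :=
    Subgroup.le_normalizer_iff.2 fun h hh x hx => hS.conj_mem h hh.1 x hx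
  rw [← hS.sup_eq] at hg
  have : g ∈ (↑(Q ⊔ twoPoint a t) : Set G) := hg
  rw [Subgroup.coe_mul_of_right_le_normalizer_left _ _ hn] at this
  obtain ⟨x, hx, d, hd, rfl⟩ := Set.mem_mul.1 this
  exact ⟨x, hx, d, hd, rfl⟩

theorem exists_mem_smul_eq (hS : IsRankOneSetup G Ω a t Q) {c : Ω} (hc : c ≠ a) :
    ∃ x ∈ Q, x • (t • a) = c := by
  obtain ⟨g, hga, hgb⟩ := exists_smul_pair hS (smul_t_ne hS).symm hc.symm
  obtain ⟨x, hx, d, hd, rfl⟩ := stabilizer_eq_mul hS hga
  refine ⟨x, hx, ?_⟩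
  rw [mul_smul, show d • t • a = t • a from hd.2] at hgb
  exact hgb

theorem eq_one_of_smul_eq (hS : IsRankOneSetup G Ω a t Q) {c : Ω} (hc : c ≠ a) {x : G}
    (hx : x ∈ Q) (h : x • c = c) : x = 1 := by
  obtain ⟨y, hy, hyc⟩ := exists_mem_smul_eq hS hc
  have hmem : y⁻¹ * x * y ∈ Q ⊓ stabilizer G (t • a) := by
    refine ⟨Q.mul_mem (Q.mul_mem (Q.inv_mem hy) hx) hy, ?_⟩
    show (y⁻¹ * x * y) • t • a = t • a
    rw [mul_smul, mul_smul, hyc, h, ← hyc, inv_smul_smul]
  rw [hS.inf_eq_bot, Subgroup.mem_bot] at hmem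
  calc x = y * (y⁻¹ * x * y) * y⁻¹ := by group
    _ = 1 := by rw [hmem]; simp

theorem existsUnique_smul_eq (hS : IsRankOneSetup G Ω a t Q) {b c : Ω} (hb : b ≠ a) (hc : c ≠ a) :
    ∃! x : Q, (x : G) • b = c := by
  obtain ⟨u, hu, hub⟩ := exists_mem_smul_eq hS hb
  obtain ⟨v, hv, hvc⟩ := exists_mem_smul_eq hS hc
  have hsol : (v * u⁻¹) • b = c := by rw [mul_smul, ← hub, inv_smul_smul, hvc]
  refine ⟨⟨v * u⁻¹, Q.mul_mem hv (Q.inv_mem hu)⟩, hsol, ?_⟩
  rintro ⟨y, hy⟩ hyb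
  refine Subtype.ext ?_
  have := eq_one_of_smul_eq hS hb (x := (v * u⁻¹)⁻¹ * y)
    (Q.mul_mem (Q.inv_mem (Q.mul_mem hv (Q.inv_mem hu))) hy)
    (by rw [mul_smul, show y • b = c from hyb, ← hsol, inv_smul_smul])
  exact (inv_mul_eq_one.1 this).symm

/-- The only fixed point of a nontrivial element of `Q` is `a`. -/
theorem smul_eq_self_iff (hS : IsRankOneSetup G Ω a t Q) {x : G} (hx : x ∈ Q) (h1 : x ≠ 1) {c : Ω} :
    x • c = c ↔ c = a := by
  refine ⟨fun h => ?_, ?_⟩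
  · by_contra hc
    exact h1 (eq_one_of_smul_eq hS hc hx h)
  · rintro rfl
    exact hS.le hx

theorem exists_ne_one (hS : IsRankOneSetup G Ω a t Q) : ∃ x ∈ Q, x ≠ 1 := by
  by_contra h
  push Not at h
  have hQ : Q = ⊥ := (Subgroup.eq_bot_iff_forall Q).2 h
  have := hS.even_card
  rw [hQ, Subgroup.card_bot] at this
  exact Nat.not_even_one this

theorem normalizer_le_stabilizer (hS : IsRankOneSetup G Ω a t Q) {X : Set G} (hX : X ⊆ (Q : Set G))
    (hne : ∃ x ∈ X, x ≠ 1) : Subgroup.normalizer X ≤ stabilizer G a := by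
  intro n hn
  obtain ⟨x, hx, hx1⟩ := hne
  rw [Subgroup.mem_set_normalizer_iff] at hn
  have hy : n * x * n⁻¹ ∈ Q := hX ((hn x).1 hx)
  have hy1 : n * x * n⁻¹ ≠ 1 := fun h => hx1 (conj_eq_one_iff.1 h)
  refine (smul_eq_self_iff hS hy hy1).1 ?_
  rw [mul_smul, mul_smul, inv_smul_smul, show x • a = a from hS.le (hX hx)]

theorem normalizer_eq (hS : IsRankOneSetup G Ω a t Q) :
    Subgroup.normalizer (Q : Set G) = stabilizer G a :=
  le_antisymm (normalizer_le_stabilizer hS subset_rfl (exists_ne_one hS))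
    (Subgroup.le_normalizer_iff.2 fun h hh x hx => hS.conj_mem h hh x hx)

theorem normalizer_stabilizer (hS : IsRankOneSetup G Ω a t Q) :
    Subgroup.normalizer (stabilizer G a : Set G) = stabilizer G a := by
  refine le_antisymm (fun n hn => ?_) Subgroup.le_normalizer
  obtain ⟨x, hx, hx1⟩ := exists_ne_one hS
  refine (smul_eq_self_iff hS hx hx1).1 ?_
  rw [Subgroup.mem_normalizer_iff''] at hn
  have h := mem_stabilizer_iff.1 ((hn x).1 (hS.le hx))
  rw [mul_smul, mul_smul, inv_smul_eq_iff] at h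
  exact h

theorem finite_omega [Finite G] (hS : IsRankOneSetup G Ω a t Q) : Finite Ω := by
  refine Finite.of_surjective (fun g : G => g • a) fun c => ?_
  by_cases hc : c = a
  · exact ⟨1, by simp [hc]⟩
  · obtain ⟨g, hg, -⟩ := exists_smul_pair hS (smul_t_ne hS).symm hc
    exact ⟨g, hg⟩

theorem card_omega [Finite G] (hS : IsRankOneSetup G Ω a t Q) :
    Nat.card Ω = Nat.card Q + 1 := by
  classical
  have := finite_omega hS
  have hbij : Function.Bijective (fun x : Q =>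
      (⟨(x : G) • (t • a), fun h => smul_t_ne hS <| by
        have ha : (x : G)⁻¹ • a = a := hS.le (Q.inv_mem x.2)
        rw [← inv_smul_smul (x : G) (t • a), h, ha]⟩ : {c : Ω // c ≠ a})) := by
    constructor
    · intro x y hxy
      have h : (x : G) • (t • a) = (y : G) • (t • a) := congrArg Subtype.val hxy
      exact (existsUnique_smul_eq hS (smul_t_ne hS) (fun hh => smul_t_ne hS (by
        have ha : (x : G)⁻¹ • a = a := hS.le (Q.inv_mem x.2)
        rw [← inv_smul_smul (x : G) (t • a), hh, ha]))).unique rfl h.symm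
    · rintro ⟨c, hc⟩
      obtain ⟨x, hx, hxc⟩ := exists_mem_smul_eq hS hc
      exact ⟨⟨x, hx⟩, Subtype.ext hxc⟩
  rw [Nat.card_eq_of_bijective _ hbij, ← Finite.card_option]
  exact (Nat.card_congr (Equiv.optionSubtypeNe a)).symm

theorem card_stabilizer [Finite G] (hS : IsRankOneSetup G Ω a t Q) :
    Nat.card (stabilizer G a) = Nat.card Q * Nat.card (twoPoint a t) := by
  rw [← Nat.card_prod]
  refine (Nat.card_eq_of_bijective (fun p : Q × twoPoint a t =>
    (⟨(p.1 : G) * p.2, (stabilizer G a).mul_mem (hS.le p.1.2) p.2.2.1⟩ : stabilizer G a)) ⟨?_, ?_⟩).symm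
  · intro p q h
    have h' : (p.1 : G) * p.2 = q.1 * q.2 := congrArg Subtype.val h
    have hm : (q.1 : G)⁻¹ * p.1 ∈ Q ⊓ stabilizer G (t • a) := by
      refine ⟨Q.mul_mem (Q.inv_mem q.1.2) p.1.2, ?_⟩
      have : (q.1 : G)⁻¹ * p.1 = q.2 * (p.2 : G)⁻¹ := by
        rw [eq_mul_inv_iff_mul_eq, mul_assoc, h', inv_mul_cancel_left]
      rw [this]
      exact ((twoPoint a t).mul_mem q.2.2 ((twoPoint a t).inv_mem p.2.2)).2
    rw [hS.inf_eq_bot, Subgroup.mem_bot, inv_mul_eq_one] at hm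
    rw [← hm] at h'
    exact Prod.ext (Subtype.ext hm.symm) (Subtype.ext (mul_left_cancel h'))
  · rintro ⟨g, hg⟩
    obtain ⟨x, hx, d, hd, rfl⟩ := stabilizer_eq_mul hS hg
    exact ⟨(⟨x, hx⟩, ⟨d, hd⟩), rfl⟩

theorem card_group [Finite G] (hS : IsRankOneSetup G Ω a t Q) :
    Nat.card G = Nat.card Q * Nat.card (twoPoint a t) * (Nat.card Q + 1) := by
  have hidx : (stabilizer G a).index = Nat.card Ω := by
    have : IsPretransitive G Ω := ⟨fun x y => by
      by_cases hxy : x = y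
      · exact ⟨1, by simp [hxy]⟩
      · obtain ⟨g, hg, -⟩ := exists_smul_pair hS hxy (Ne.symm hxy)
        exact ⟨g, hg⟩⟩
    exact MulAction.index_stabilizer_of_transitive G a
  rw [← Subgroup.card_mul_index (stabilizer G a), hidx, card_omega hS, card_stabilizer hS]

theorem exists_sylow_two_le [Finite G] (hS : IsRankOneSetup G Ω a t Q) :
    ∃ P : Sylow 2 G, (P : Subgroup G) ≤ Q := by
  have : Fact (Nat.Prime 2) := ⟨Nat.prime_two⟩
  let P₀ : Sylow 2 Q := default
  obtain ⟨P, hP⟩ := (P₀.isPGroup'.map Q.subtype).exists_le_sylow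
  refine ⟨P, ?_⟩
  have hcard : Nat.card ((P₀ : Subgroup Q).map Q.subtype) = Nat.card (P : Subgroup G) := by
    rw [Subgroup.card_map_of_injective Q.subtype_injective, Sylow.card_eq_multiplicity,
      Sylow.card_eq_multiplicity, card_group hS]
    congr 1
    have hQ : Nat.card Q ≠ 0 := Nat.card_pos.ne'
    have hD : Odd (Nat.card (twoPoint a t)) := hS.odd_card
    have hd : ¬ 2 ∣ Nat.card (twoPoint a t) := hD.not_two_dvd_nat
    have hq : ¬ 2 ∣ Nat.card Q + 1 := by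
      have := hS.even_card.two_dvd
      omega
    rw [Nat.factorization_mul (mul_ne_zero hQ Nat.card_pos.ne') (Nat.succ_ne_zero _),
      Nat.factorization_mul hQ Nat.card_pos.ne']
    rw [Finsupp.add_apply, Finsupp.add_apply, Nat.factorization_eq_zero_of_not_dvd hd,
      Nat.factorization_eq_zero_of_not_dvd hq, add_zero, add_zero]
  rw [← Subgroup.eq_of_le_of_card_ge hP hcard.ge]
  exact Subgroup.map_subtype_le _

theorem existsUnique_canonical (hS : IsRankOneSetup G Ω a t Q) {g : G}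
    (hg : g ∉ stabilizer G a) :
    ∃! p : G × G, p.1 ∈ stabilizer G a ∧ p.2 ∈ Q ∧ g = p.1 * t * p.2 := by
  have htt : t⁻¹ = t := inv_eq_of_mul_eq_one_left hS.mul_self
  have hne : g⁻¹ • a ≠ a := fun h => hg ((stabilizer G a).inv_mem_iff.1 h)
  obtain ⟨y, hy, huniq⟩ := existsUnique_smul_eq hS hne (smul_t_ne hS)
  refine ⟨(g * (y : G)⁻¹ * t, y), ⟨?_, y.2, ?_⟩, ?_⟩
  · show (g * (y : G)⁻¹ * t) • a = a
    rw [mul_smul, mul_smul, ← show (y : G) • g⁻¹ • a = t • a from hy, inv_smul_smul, smul_inv_smul]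
  · simp [mul_assoc, hS.mul_self]
  · rintro ⟨x, z⟩ ⟨hx, hz, he⟩
    have hz' : (⟨z, hz⟩ : Q) = y := huniq ⟨z, hz⟩ (by
      show z • g⁻¹ • a = t • a
      rw [he]
      simp [mul_smul, htt, show x⁻¹ • a = a from (stabilizer G a).inv_mem hx])
    subst hz'
    have : x = g * z⁻¹ * t := by
      rw [he]
      simp [mul_assoc, hS.mul_self]
    exact Prod.ext this rfl

end CfsgLib.RankOne
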